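import Groth.Prelude.Def_CoactBr
import Groth.Agent.Misc15.AffinePoints

/-!
# Points fixing points for an action given by a coaction: reduction to ring valued points
-/

set_option autoImplicit false
universe u

open CategoryTheory MonoidalCategory CartesianMonoidalCategory MonObj AlgebraicGeometry
open scoped TensorProduct
open CoactBr

noncomputable section

namespace Groth.Agent.CohDer1.CoactInertia

variable (R A B : Type u) [CommRing R] [CommRing A] [HopfAlgebra R A] [CommRing B] [Algebra R B]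
  [HopfRep.Comod R A B] [GLin.IsCoactAlg R A B]

/-- Trivial inertia at a point, as in the statements. -/
def InTriv {K : Type u} [CommRing K] [Algebra R K] (x : B →ₐ[R] K) : Prop :=
  ∀ (T : Over (Spec (CommRingCat.of R))) (h : T ⟶ sp R K) (g : T ⟶ sp R A),
    lift g (h ≫ pt x) ≫ (action R A B).act = h ≫ pt x → g = 1

variable {R A B}

/-- The ring valued point `g` fixes the ring valued point `z`. -/
def Fixes {L : Type u} [CommRing L] [Algebra R L] (z : B →ₐ[R] L) (g : A →ₐ[R] L) : Prop :=
  ∀ b : B, Algebra.TensorProduct.lift z g (fun _ _ => .all ..) (GLin.coactAlgHom R A B b) = z b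

/-- The point `g` is the unit. -/
def IsUnitPt {L : Type u} [CommRing L] [Algebra R L] (g : A →ₐ[R] L) : Prop :=
  ∀ a : A, g a = algebraMap R L (CoalgebraStruct.counit (R := R) a)

theorem lift_ract_inv {T : Over (Spec (CommRingCat.of R))} {g : T ⟶ sp R A} {z : T ⟶ sp R B}
    (h : lift z g ≫ ract R A B = z) : lift z g⁻¹ ≫ ract R A B = z := by
  conv_lhs => rw [← h]
  rw [lift_ract_ract, mul_inv_cancel, lift_one_ract]

theorem act_fix_iff {T : Over (Spec (CommRingCat.of R))} (g : T ⟶ sp R A) (z : T ⟶ sp R B) :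
    lift g z ≫ (action R A B).act = z ↔ lift z g ≫ ract R A B = z := by
  rw [lift_action_act]
  refine ⟨fun h => ?_, lift_ract_inv⟩
  simpa using lift_ract_inv h

theorem pt_fix_iff {L : Type u} [CommRing L] [Algebra R L] (z : B →ₐ[R] L) (g : A →ₐ[R] L) :
    lift (pt z) (pt g) ≫ ract R A B = pt z ↔ Fixes z g := by
  rw [lift_pt_ract]
  exact ⟨fun h b => AlgHom.congr_fun (pt_injective h) b, fun h => congrArg pt (AlgHom.ext h)⟩

theorem pt_eq_one_iff {L : Type u} [CommRing L] [Algebra R L] (g : A →ₐ[R] L) :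
    pt g = (1 : sp R L ⟶ sp R A) ↔ IsUnitPt g := by
  rw [one_eq_pt]
  exact ⟨fun h a => AlgHom.congr_fun (pt_injective h) a, fun h => congrArg pt (AlgHom.ext h)⟩

/-- Affine objects over `Spec R` detect morphisms. -/
theorem hom_ext_of_affine {T X : Over (Spec (CommRingCat.of R))} (g g' : T ⟶ X)
    (H : ∀ (L : Type u) [CommRing L] [Algebra R L] (i : sp R L ⟶ T), i ≫ g = i ≫ g') : g = g' := by
  apply Over.OverMorphism.ext
  refine Scheme.Cover.hom_ext (T.left.affineCover) _ _ fun j => ?_
  haveI : IsAffine (Over.mk (T.left.affineCover.f j ≫ T.hom)).left :=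
    inferInstanceAs (IsAffine (Spec _))
  obtain ⟨L, _, _, ⟨e⟩⟩ := Misc15.AffinePoints.exists_sp (Over.mk (T.left.affineCover.f j ≫ T.hom))
  let i : sp R L ⟶ T := e.hom ≫ Over.homMk (T.left.affineCover.f j) rfl
  have h := congrArg (fun m => e.inv.left ≫ m.left) (H L i)
  simp only [i, Over.comp_left, Over.homMk_left, Category.assoc] at h
  rw [← Category.assoc e.inv.left, ← Category.assoc e.inv.left, ← Over.comp_left, Iso.inv_hom_id, Over.id_left,
    Category.id_comp] at h
  exact h

/-- A point fixing `z` is the unit when this holds on all ring valued points. -/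
theorem eq_one_of_fix {T : Over (Spec (CommRingCat.of R))} (z : T ⟶ sp R B) (g : T ⟶ sp R A)
    (hfix : lift g z ≫ (action R A B).act = z)
    (H : ∀ (L : Type u) [CommRing L] [Algebra R L] (i : sp R L ⟶ T) (z' : B →ₐ[R] L) (g' : A →ₐ[R] L),
      i ≫ z = pt z' → Fixes z' g' → IsUnitPt g') : g = 1 := by
  refine hom_ext_of_affine g 1 fun L _ _ i => ?_
  obtain ⟨z', hz⟩ := Misc15.AffinePoints.pt_surjective (i ≫ z)
  obtain ⟨g', hg⟩ := Misc15.AffinePoints.pt_surjective (i ≫ g)
  have h := congrArg (i ≫ ·) ((act_fix_iff g z).1 hfix)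
  simp only [← Category.assoc, comp_lift, ← hz, ← hg] at h
  rw [MonObj.comp_one, ← hg, pt_eq_one_iff]
  exact H L i z' g' hz.symm ((pt_fix_iff z' g').1 h)

variable (R A B)

theorem free_of_fixes
    (H : ∀ (L : Type u) [CommRing L] [Algebra R L] (z : B →ₐ[R] L) (g : A →ₐ[R] L), Fixes z g → IsUnitPt g)
    (T : Over (Spec (CommRingCat.of R))) (z : T ⟶ sp R B) (g : T ⟶ sp R A)
    (hfix : lift g z ≫ (action R A B).act = z) : g = 1 :=
  eq_one_of_fix z g hfix fun L _ _ _ z' g' _ h => H L z' g' h

variable {R A B}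

theorem inTriv_iff {K : Type u} [CommRing K] [Algebra R K] (x : B →ₐ[R] K) :
    InTriv R A B x ↔ ∀ (L : Type u) [CommRing L] [Algebra R L] (h : K →ₐ[R] L) (g : A →ₐ[R] L),
      Fixes (h.comp x) g → IsUnitPt g := by
  constructor
  · intro H L _ _ h g hfix
    rw [← pt_eq_one_iff]
    refine H (sp R L) (pt h) (pt g) ((act_fix_iff _ _).2 ?_)
    rw [← CoactBr.pt_comp]
    exact (pt_fix_iff _ _).2 hfix
  · intro H T h g hfix
    refine eq_one_of_fix _ g hfix fun L _ _ i z' g' hz hf => ?_
    obtain ⟨h', hh⟩ := Misc15.AffinePoints.pt_surjective (i ≫ h)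
    rw [← Category.assoc, ← hh, ← CoactBr.pt_comp] at hz
    rw [← pt_injective hz] at hf
    exact H L h' g' hf

/-- Conjugation: a point `k` fixes `x · g` exactly when `g k g⁻¹` fixes `x`. -/
theorem fix_mul_iff {T : Over (Spec (CommRingCat.of R))} (x : T ⟶ sp R B) (g k : T ⟶ sp R A) :
    lift k (lift x g ≫ ract R A B) ≫ (action R A B).act = lift x g ≫ ract R A B ↔
      lift (g * k * g⁻¹) x ≫ (action R A B).act = x := by
  rw [act_fix_iff, act_fix_iff, lift_ract_ract]
  constructor
  · intro h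
    have h' := congrArg (fun p => lift p g⁻¹ ≫ ract R A B) h
    simpa only [lift_ract_ract, mul_inv_cancel, lift_one_ract] using h'
  · intro h
    have h' := congrArg (fun p => lift p g ≫ ract R A B) h
    simpa only [lift_ract_ract, inv_mul_cancel_right] using h'

/-- Trivial inertia moves along the action. -/
theorem inTriv_of_moved {K : Type u} [CommRing K] [Algebra R K] (x x' : B →ₐ[R] K) (g : sp R K ⟶ sp R A)
    (hg : lift (pt x) g ≫ ract R A B = pt x') (H : InTriv R A B x) : InTriv R A B x' := by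
  intro T h k hk
  rw [← hg, ← Category.assoc, comp_lift] at hk
  have h1 := H T h _ ((fix_mul_iff (h ≫ pt x) (h ≫ g) k).1 hk)
  simpa [mul_inv_eq_one] using h1

theorem lift_pt_ract_algHom {K : Type u} [CommRing K] [Algebra R K] (x : B →ₐ[R] K) (g : A →ₐ[R] K) (x' : B →ₐ[R] K)
    (h : ∀ b, Algebra.TensorProduct.lift x g (fun _ _ => .all ..) (GLin.coactAlgHom R A B b) = x' b) :
    lift (pt x) (pt g) ≫ ract R A B = pt x' := by
  rw [lift_pt_ract]
  exact congrArg pt (AlgHom.ext h)

end Groth.Agent.CohDer1.CoactInertia
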