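import Groth.Agent.CohDer1.CoactInertia.Stab
import Groth.Agent.GrpdLib.Orbit

/-!
# The groupoid of an action given by a coaction, and the orbit lemmas
-/

set_option autoImplicit false
set_option linter.unusedSectionVars false
set_option maxHeartbeats 800000
universe u

open CategoryTheory MonoidalCategory CartesianMonoidalCategory MonObj
open TensorProduct
open CoactBr
open Groth.Agent.GrpdLib

noncomputable section

namespace Groth.Agent.CohDer1.CoactInertia

variable {R A B : Type u} [CommRing R] [CommRing A] [HopfAlgebra R A] [CommRing B] [Algebra R B]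
  [HopfRep.Comod R A B] [GLin.IsCoactAlg R A B]

section Ops

variable {T T' : Type u} [CommRing T] [Algebra R T] [CommRing T'] [Algebra R T']

/-- Product of points of the group. -/
def mulP (p q : A →ₐ[R] T) : A →ₐ[R] T :=
  (Algebra.TensorProduct.lift p q fun _ _ => .all ..).comp (Bialgebra.comulAlgHom R A)

/-- The unit point. -/
def oneP : A →ₐ[R] T := (Algebra.ofId R T).comp (Bialgebra.counitAlgHom R A)

/-- The inverse point. -/
def invP (p : A →ₐ[R] T) : A →ₐ[R] T := p.comp (HopfAlgebra.antipodeAlgHom R A)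

/-- A point moved by a point of the group. -/
def mvP (x : B →ₐ[R] T) (g : A →ₐ[R] T) : B →ₐ[R] T :=
  (Algebra.TensorProduct.lift x g fun _ _ => .all ..).comp (GLin.coactAlgHom R A B)

theorem pt_mulP (p q : A →ₐ[R] T) : pt (mulP p q) = pt p * pt q := (pt_mul_pt p q).symm

theorem pt_oneP : pt (oneP : A →ₐ[R] T) = 1 := one_eq_pt.symm

theorem pt_invP (p : A →ₐ[R] T) : pt (invP p) = (pt p)⁻¹ := (pt_inv p).symm

theorem pt_mvP (x : B →ₐ[R] T) (g : A →ₐ[R] T) : pt (mvP x g) = lift (pt x) (pt g) ≫ ract R A B :=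
  (lift_pt_ract x g).symm

theorem mulP_assoc (p q r : A →ₐ[R] T) : mulP (mulP p q) r = mulP p (mulP q r) :=
  pt_injective (by simp only [pt_mulP]; exact mul_assoc _ _ _)

theorem mulP_one (p : A →ₐ[R] T) : mulP p oneP = p := pt_injective (by simp only [pt_mulP, pt_oneP]; exact mul_one _)

theorem one_mulP (p : A →ₐ[R] T) : mulP oneP p = p := pt_injective (by simp only [pt_mulP, pt_oneP]; exact one_mul _)

theorem invP_mulP (p : A →ₐ[R] T) : mulP (invP p) p = oneP :=
  pt_injective (by simp only [pt_mulP, pt_oneP, pt_invP, inv_mul_cancel])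

theorem mulP_invP (p : A →ₐ[R] T) : mulP p (invP p) = oneP :=
  pt_injective (by simp only [pt_mulP, pt_oneP, pt_invP, mul_inv_cancel])

theorem mvP_mvP (x : B →ₐ[R] T) (p q : A →ₐ[R] T) : mvP (mvP x p) q = mvP x (mulP p q) :=
  pt_injective (by simp only [pt_mvP, pt_mulP, lift_ract_ract])

theorem mvP_one (x : B →ₐ[R] T) : mvP x (oneP : A →ₐ[R] T) = x :=
  pt_injective (by simp only [pt_mvP, pt_oneP, lift_one_ract])

theorem lift_comp (χ : T →ₐ[R] T') {P Q : Type u} [CommRing P] [Algebra R P] [CommRing Q] [Algebra R Q]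
    (x : P →ₐ[R] T) (g : Q →ₐ[R] T) :
    χ.comp (Algebra.TensorProduct.lift x g fun _ _ => .all ..) =
      Algebra.TensorProduct.lift (χ.comp x) (χ.comp g) fun _ _ => .all .. :=
  Algebra.TensorProduct.ext' fun p q => by simp

theorem comp_mulP (χ : T →ₐ[R] T') (p q : A →ₐ[R] T) : χ.comp (mulP p q) = mulP (χ.comp p) (χ.comp q) := by
  rw [mulP, mulP, ← AlgHom.comp_assoc, lift_comp]

theorem comp_mvP (χ : T →ₐ[R] T') (x : B →ₐ[R] T) (g : A →ₐ[R] T) :
    χ.comp (mvP x g) = mvP (χ.comp x) (χ.comp g) := by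
  rw [mvP, mvP, ← AlgHom.comp_assoc, lift_comp]

end Ops

variable (R A B) in
/-- The source. -/
abbrev sA : B →ₐ[R] B ⊗[R] A := Algebra.TensorProduct.includeLeft

variable (R A B) in
/-- The group component. -/
abbrev nA : A →ₐ[R] B ⊗[R] A := Algebra.TensorProduct.includeRight

variable (R A B) in
/-- The target. -/
abbrev tA : B →ₐ[R] B ⊗[R] A := GLin.coactAlgHom R A B

section Arrows

variable {T T' : Type u} [CommRing T] [Algebra R T] [CommRing T'] [Algebra R T']

theorem arrow_ext {φ ψ : B ⊗[R] A →ₐ[R] T} (h1 : φ.comp (sA R A B) = ψ.comp (sA R A B))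
    (h2 : φ.comp (nA R A B) = ψ.comp (nA R A B)) : φ = ψ :=
  Algebra.TensorProduct.ext' fun b a => by
    rw [← mul_one b, ← one_mul a, ← Algebra.TensorProduct.tmul_mul_tmul, map_mul, map_mul]
    exact congrArg₂ (· * ·) (AlgHom.congr_fun h1 b) (AlgHom.congr_fun h2 a)

theorem comp_tA (φ : B ⊗[R] A →ₐ[R] T) :
    φ.comp (tA R A B) = mvP (φ.comp (sA R A B)) (φ.comp (nA R A B)) := by
  rw [mvP, ← lift_comp, Algebra.TensorProduct.lift_includeLeft_includeRight, AlgHom.comp_id]

/-- Composition of arrows. -/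
def compA (α β : B ⊗[R] A →ₐ[R] T) : B ⊗[R] A →ₐ[R] T :=
  Algebra.TensorProduct.lift (β.comp (sA R A B)) (mulP (β.comp (nA R A B)) (α.comp (nA R A B))) fun _ _ => .all ..

theorem compA_sA (α β : B ⊗[R] A →ₐ[R] T) : (compA α β).comp (sA R A B) = β.comp (sA R A B) :=
  AlgHom.ext fun b => by simp [compA]

theorem compA_nA (α β : B ⊗[R] A →ₐ[R] T) :
    (compA α β).comp (nA R A B) = mulP (β.comp (nA R A B)) (α.comp (nA R A B)) :=
  AlgHom.ext fun b => by simp [compA]

theorem comp_compA (χ : T →ₐ[R] T') (α β : B ⊗[R] A →ₐ[R] T) :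
    χ.comp (compA α β) = compA (χ.comp α) (χ.comp β) := by
  refine arrow_ext ?_ ?_
  · rw [AlgHom.comp_assoc, compA_sA, compA_sA, AlgHom.comp_assoc]
  · rw [AlgHom.comp_assoc, compA_nA, compA_nA, comp_mulP, AlgHom.comp_assoc, AlgHom.comp_assoc]

end Arrows

/-- An arrow as an algebra map, for the algebra structure it induces. -/
theorem compat {T : Type u} [CommRing T] {α β : B ⊗[R] A →+* T}
    (h : α.comp (sA R A B).toRingHom = β.comp (tA R A B).toRingHom) (r : R) :
    α (algebraMap R _ r) = β (algebraMap R _ r) := by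
  have := RingHom.congr_fun h (algebraMap R B r)
  simp only [RingHom.comp_apply, AlgHom.toRingHom_eq_coe, RingHom.coe_coe, AlgHom.commutes] at this
  exact this

/-- Composition on ring maps. -/
def compR {T : Type u} [CommRing T] (α β : B ⊗[R] A →+* T)
    (h : α.comp (sA R A B).toRingHom = β.comp (tA R A B).toRingHom) : B ⊗[R] A →+* T :=
  letI : Algebra R T := (α.comp (algebraMap R (B ⊗[R] A))).toAlgebra
  (compA ({ α with commutes' := fun _ => rfl } : B ⊗[R] A →ₐ[R] T)
    { β with commutes' := fun r => (compat h r).symm }).toRingHom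

theorem compA_congr {T : Type u} [CommRing T] (i j : Algebra R T) (e : i = j)
    (a b : @AlgHom R (B ⊗[R] A) T _ _ _ _ i) (a' b' : @AlgHom R (B ⊗[R] A) T _ _ _ _ j)
    (ha : @AlgHom.toRingHom _ _ _ _ _ _ _ i a = @AlgHom.toRingHom _ _ _ _ _ _ _ j a')
    (hb : @AlgHom.toRingHom _ _ _ _ _ _ _ i b = @AlgHom.toRingHom _ _ _ _ _ _ _ j b') :
    (letI := i; (compA a b).toRingHom) = (letI := j; (compA a' b').toRingHom) := by
  subst e
  rw [AlgHom.coe_ringHom_injective ha, AlgHom.coe_ringHom_injective hb]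

theorem compR_eq {T : Type u} [CommRing T] [i : Algebra R T] (α β : B ⊗[R] A →ₐ[R] T)
    (h : (α : B ⊗[R] A →+* T).comp (sA R A B).toRingHom = (β : B ⊗[R] A →+* T).comp (tA R A B).toRingHom) :
    compR (α : B ⊗[R] A →+* T) β h = (compA α β : B ⊗[R] A →+* T) :=
  compA_congr _ i (Algebra.algebra_ext ((α : B ⊗[R] A →+* T).comp (algebraMap R (B ⊗[R] A))).toAlgebra i
    (fun r => (α.commutes r :))) _ _ _ _ rfl rfl

theorem exists_algebra {T : Type u} [CommRing T] (α : B ⊗[R] A →+* T) :
    ∃ (_ : Algebra R T) (φ : B ⊗[R] A →ₐ[R] T), (φ : B ⊗[R] A →+* T) = α :=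
  ⟨(α.comp (algebraMap R (B ⊗[R] A))).toAlgebra,
    @AlgHom.mk _ _ _ _ _ _ _ (α.comp (algebraMap R (B ⊗[R] A))).toAlgebra α fun _ => rfl, rfl⟩

theorem exists_algHom {T : Type u} [CommRing T] [Algebra R T] {α : B ⊗[R] A →ₐ[R] T} (β : B ⊗[R] A →+* T)
    (h : (α : B ⊗[R] A →+* T).comp (sA R A B).toRingHom = β.comp (tA R A B).toRingHom) :
    ∃ φ : B ⊗[R] A →ₐ[R] T, (φ : B ⊗[R] A →+* T) = β :=
  ⟨{ β with commutes' := fun r => (compat h r).symm.trans (α.commutes r) }, rfl⟩

variable (R A B) in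
/-- The identity arrows. -/
def eA : B ⊗[R] A →ₐ[R] B := (eps R A B).restrictScalars R

theorem eA_sA : (eA R A B).comp (sA R A B) = AlgHom.id R B :=
  AlgHom.ext fun b => by
    show eps R A B (b ⊗ₜ[R] (1 : A)) = b
    rw [eps_tmul, Bialgebra.counit_one, one_smul]

theorem eA_nA : (eA R A B).comp (nA R A B) = oneP :=
  AlgHom.ext fun a => by
    show eps R A B ((1 : B) ⊗ₜ[R] a) = _
    rw [eps_tmul, ← Algebra.algebraMap_eq_smul_one]
    rfl

theorem eA_tA : (eA R A B).comp (tA R A B) = AlgHom.id R B := by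
  rw [comp_tA, eA_sA, eA_nA, mvP_one]

variable (R A B) in
/-- The inverse of arrows. -/
def iA : B ⊗[R] A →ₐ[R] B ⊗[R] A :=
  Algebra.TensorProduct.lift (tA R A B) (invP (nA R A B)) fun _ _ => .all ..

theorem iA_sA : (iA R A B).comp (sA R A B) = tA R A B := AlgHom.ext fun b => by simp [iA]

theorem iA_nA : (iA R A B).comp (nA R A B) = invP (nA R A B) := AlgHom.ext fun b => by simp [iA]

theorem comp_invP {T T' : Type u} [CommRing T] [Algebra R T] [CommRing T'] [Algebra R T'] (χ : T →ₐ[R] T')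
    (p : A →ₐ[R] T) : χ.comp (invP p) = invP (χ.comp p) := (AlgHom.comp_assoc _ _ _).symm

theorem comp_oneP {T T' : Type u} [CommRing T] [Algebra R T] [CommRing T'] [Algebra R T'] (χ : T →ₐ[R] T') :
    χ.comp (oneP : A →ₐ[R] T) = oneP := AlgHom.ext fun a => χ.commutes _

theorem iA_tA : (iA R A B).comp (tA R A B) = sA R A B := by
  have h := comp_tA (AlgHom.id R (B ⊗[R] A))
  simp only [AlgHom.id_comp] at h
  rw [comp_tA, iA_sA, iA_nA, h, mvP_mvP, mulP_invP, mvP_one]

variable (R A B) in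
/-- The groupoid of the action. -/
def grpd : RingGrpd B (B ⊗[R] A) where
  s := (sA R A B).toRingHom
  t := (tA R A B).toRingHom
  e := (eA R A B).toRingHom
  i := (iA R A B).toRingHom
  comp α β h := compR α β h
  comp_map := by
    intro T T' _ _ g α β h h'
    obtain ⟨_, a', rfl⟩ := exists_algebra α
    obtain ⟨b', rfl⟩ := exists_algHom β h
    letI : Algebra R T' := (g.comp (algebraMap R T)).toAlgebra
    let χ : T →ₐ[R] T' := { g with commutes' := fun _ => rfl }
    rw [compR_eq]
    exact (congrArg AlgHom.toRingHom (comp_compA χ a' b')).trans (compR_eq (χ.comp a') (χ.comp b') h').symm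
  comp_s := by
    intro T _ α β h
    obtain ⟨_, a', rfl⟩ := exists_algebra α
    obtain ⟨b', rfl⟩ := exists_algHom β h
    rw [compR_eq]
    exact congrArg AlgHom.toRingHom (compA_sA a' b')
  comp_t := by
    intro T _ α β h
    obtain ⟨_, a', rfl⟩ := exists_algebra α
    obtain ⟨b', rfl⟩ := exists_algHom β h
    have hh : a'.comp (sA R A B) = b'.comp (tA R A B) := AlgHom.ext fun x => RingHom.congr_fun h x
    rw [compR_eq]
    refine congrArg AlgHom.toRingHom (?_ : (compA a' b').comp (tA R A B) = a'.comp (tA R A B))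
    rw [comp_tA, compA_sA, compA_nA, ← mvP_mvP, ← comp_tA b', ← hh, ← comp_tA]
  assoc := by
    intro T _ α β γ h₁ h₂ h₃ h₄
    obtain ⟨_, a', rfl⟩ := exists_algebra α
    obtain ⟨b', rfl⟩ := exists_algHom β h₁
    obtain ⟨c', rfl⟩ := exists_algHom γ h₂
    simp only [compR_eq a' b' h₁, compR_eq b' c' h₂] at h₃ h₄ ⊢
    rw [compR_eq (compA a' b') c' h₃, compR_eq a' (compA b' c') h₄]
    refine congrArg AlgHom.toRingHom (arrow_ext (φ := compA (compA a' b') c') (ψ := compA a' (compA b' c')) ?_ ?_)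
    · simp only [compA_sA]
    · simp only [compA_nA, mulP_assoc]
  e_s := congrArg AlgHom.toRingHom eA_sA
  e_t := congrArg AlgHom.toRingHom eA_tA
  comp_e := by
    intro T _ α h
    obtain ⟨_, a', rfl⟩ := exists_algebra α
    refine (compR_eq a' ((a'.comp (sA R A B)).comp (eA R A B)) h).trans ?_
    refine congrArg AlgHom.toRingHom (arrow_ext (φ := compA a' ((a'.comp (sA R A B)).comp (eA R A B)))
      (ψ := a') ?_ ?_)
    · rw [compA_sA, AlgHom.comp_assoc, eA_sA, AlgHom.comp_id]
    · rw [compA_nA, AlgHom.comp_assoc _ _ (nA R A B), eA_nA, comp_oneP, one_mulP]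
  e_comp := by
    intro T _ α h
    obtain ⟨_, a', rfl⟩ := exists_algebra α
    refine (compR_eq ((a'.comp (tA R A B)).comp (eA R A B)) a' h).trans ?_
    refine congrArg AlgHom.toRingHom (arrow_ext (φ := compA ((a'.comp (tA R A B)).comp (eA R A B)) a')
      (ψ := a') ?_ ?_)
    · rw [compA_sA]
    · rw [compA_nA, AlgHom.comp_assoc _ _ (nA R A B), eA_nA, comp_oneP, mulP_one]
  i_s := congrArg AlgHom.toRingHom iA_sA
  i_t := congrArg AlgHom.toRingHom iA_tA
  comp_i := by
    intro T _ α h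
    obtain ⟨_, a', rfl⟩ := exists_algebra α
    refine (compR_eq a' (a'.comp (iA R A B)) h).trans ?_
    refine congrArg AlgHom.toRingHom (arrow_ext (φ := compA a' (a'.comp (iA R A B)))
      (ψ := (a'.comp (tA R A B)).comp (eA R A B)) ?_ ?_)
    · rw [compA_sA, AlgHom.comp_assoc, iA_sA, AlgHom.comp_assoc _ _ (sA R A B), eA_sA, AlgHom.comp_id]
    · rw [compA_nA, AlgHom.comp_assoc _ _ (nA R A B), iA_nA, comp_invP, invP_mulP,
        AlgHom.comp_assoc _ _ (nA R A B), eA_nA, comp_oneP]
  i_comp := by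
    intro T _ α h
    obtain ⟨_, a', rfl⟩ := exists_algebra α
    refine (compR_eq (a'.comp (iA R A B)) a' h).trans ?_
    refine congrArg AlgHom.toRingHom (arrow_ext (φ := compA (a'.comp (iA R A B)) a')
      (ψ := (a'.comp (sA R A B)).comp (eA R A B)) ?_ ?_)
    · rw [compA_sA, AlgHom.comp_assoc _ _ (sA R A B), eA_sA, AlgHom.comp_id]
    · rw [compA_nA, AlgHom.comp_assoc a' (iA R A B) (nA R A B), iA_nA, comp_invP, mulP_invP,
        AlgHom.comp_assoc _ _ (nA R A B), eA_nA, comp_oneP]

theorem mem_grpd_invariants {b : B} : b ∈ (grpd R A B).invariants ↔ b ∈ GLin.invariants R A B := eq_comm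

variable [Module.Finite R A] [Module.Projective R A]

variable (R A B) in
/-- The arrows over the source are `B ⊗ A`. -/
def sbEquiv : B ⊗[R] A ≃ₗ[B] (grpd R A B).SB where
  toFun x := x
  invFun x := x
  left_inv _ := rfl
  right_inv _ := rfl
  map_add' _ _ := rfl
  map_smul' a x := by
    rw [RingHom.id_apply]
    refine (Algebra.smul_def a x).trans ?_
    exact (Algebra.smul_def (R := B) (A := (grpd R A B).SB) a x).symm

theorem nonempty_projPres : Nonempty (ProjPres B (grpd R A B).SB) := by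
  haveI : Module.Finite B (grpd R A B).SB := Module.Finite.equiv (sbEquiv R A B)
  haveI : Module.Projective B (grpd R A B).SB := Module.Projective.of_equiv (sbEquiv R A B)
  exact ProjPres.nonempty

variable (R A B) in
theorem isIntegral_invariants : Algebra.IsIntegral ↥(GLin.invariants R A B) B := by
  obtain ⟨p⟩ := nonempty_projPres (R := R) (A := A) (B := B)
  refine ⟨fun b => ?_⟩
  obtain ⟨w, hw, hw'⟩ := ((grpd R A B).algebraIsIntegral p).isIntegral b
  let j : ↥(grpd R A B).invariants →+* ↥(GLin.invariants R A B) :=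
    (grpd R A B).invariants.subtype.codRestrict _ fun c => mem_grpd_invariants.1 c.2
  refine ⟨w.map j, hw.map j, ?_⟩
  rw [Polynomial.eval₂_map]
  exact hw'

/-- Two points with values in an algebraically closed field agreeing on invariants are moved onto each other. -/
theorem exists_move_of_eq_on_invariants {K : Type u} [Field K] [IsAlgClosed K] [Algebra R K] (x₁ x₂ : B →ₐ[R] K)
    (h : ∀ b ∈ GLin.invariants R A B, x₁ b = x₂ b) : ∃ g : A →ₐ[R] K, mvP x₁ g = x₂ := by
  obtain ⟨p⟩ := nonempty_projPres (R := R) (A := A) (B := B)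
  obtain ⟨r, ht, hs⟩ := (grpd R A B).exists_point_of_eq p x₂.toRingHom x₁.toRingHom fun b hb =>
    (h b (mem_grpd_invariants.1 hb)).symm
  let r' : B ⊗[R] A →ₐ[R] K :=
    { r with commutes' := fun c => (RingHom.congr_fun hs (algebraMap R B c)).trans (x₁.commutes c) }
  have e1 : r'.comp (sA R A B) = x₁ := AlgHom.ext fun b => RingHom.congr_fun hs b
  have e2 : r'.comp (tA R A B) = x₂ := AlgHom.ext fun b => RingHom.congr_fun ht b
  exact ⟨r'.comp (nA R A B), by rw [← e1, ← comp_tA, e2]⟩

/-- Primes with the same contraction to the invariants are moved onto each other by a point of some field. -/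
theorem exists_move_of_comap_eq (q q' : Ideal B) [q.IsPrime] [q'.IsPrime]
    (h : ∀ b ∈ GLin.invariants R A B, b ∈ q ↔ b ∈ q') :
    ∃ (K : Type u) (_ : Field K) (_ : Algebra R K) (x x' : B →ₐ[R] K) (g : A →ₐ[R] K),
      mvP x g = x' ∧ RingHom.ker x = q ∧ RingHom.ker x' = q' := by
  obtain ⟨p⟩ := nonempty_projPres (R := R) (A := A) (B := B)
  obtain ⟨P, hP, hs, ht⟩ := (grpd R A B).exists_prime_of_comap_eq p q q' (by
    ext ⟨b, hb⟩
    exact h b (mem_grpd_invariants.1 hb))
  let φ : B ⊗[R] A →ₐ[R] P.ResidueField := IsScalarTower.toAlgHom R _ _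
  refine ⟨P.ResidueField, inferInstance, inferInstance, φ.comp (sA R A B), φ.comp (tA R A B), φ.comp (nA R A B),
    (comp_tA φ).symm, ?_, ?_⟩
  · rw [← hs]; ext b; exact Ideal.algebraMap_residueField_eq_zero
  · rw [← ht]; ext b; exact Ideal.algebraMap_residueField_eq_zero

/-- The support of the defect is stable under the action. -/
theorem notMem_support_of_comap_eq {q q' : PrimeSpectrum B}
    (h : ∀ b ∈ GLin.invariants R A B, b ∈ q.asIdeal ↔ b ∈ q'.asIdeal)
    (hq : q ∉ Module.support B (Dmod R A B)) : q' ∉ Module.support B (Dmod R A B) := by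
  obtain ⟨K, _, _, x, x', g, hg, hx, hx'⟩ := exists_move_of_comap_eq q.asIdeal q'.asIdeal h
  have e : lift (pt x) (pt g) ≫ ract R A B = pt x' := by rw [← pt_mvP, hg]
  have h1 : InTriv R A B x := by
    rw [inTriv_iff_notMem_support]
    simpa only [hx] using hq
  have h2 := inTriv_of_moved x x' (pt g) e h1
  rw [inTriv_iff_notMem_support] at h2
  simpa only [hx'] using h2

end Groth.Agent.CohDer1.CoactInertia
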