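import Groth.Agent.CohDer1.CoactInertia.Grpd
import Mathlib.RingTheory.Flat.Basic
import Mathlib.RingTheory.LocalRing.Module
import Mathlib.RingTheory.Ideal.GoingUp
import Mathlib.AlgebraicGeometry.PullbackCarrier
import Mathlib.AlgebraicGeometry.Morphisms.Flat
import Mathlib.AlgebraicGeometry.Morphisms.FinitePresentation

/-!
# Inertia and freeness for finite flat group actions on affine schemes
-/

set_option autoImplicit false
universe u

open CategoryTheory CategoryTheory.Limits MonoidalCategory CartesianMonoidalCategory MonObj AlgebraicGeometry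
open TensorProduct
open CoactBr

noncomputable section

namespace Groth.Agent.CohDer1.CoactInertia

variable {R A B : Type u} [CommRing R] [CommRing A] [HopfAlgebra R A] [Module.Finite R A] [Module.Projective R A]
  [CommRing B] [Algebra R B] [HopfRep.Comod R A B] [GLin.IsCoactAlg R A B]

theorem invariants_agree {K : Type u} [CommRing K] [Algebra R K]
    (hC : Function.Bijective (algebraMap R (GLin.invariants R A B))) (x₁ x₂ : B →ₐ[R] K) :
    ∀ b ∈ GLin.invariants R A B, x₁ b = x₂ b := by
  intro b hb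
  obtain ⟨r, hr⟩ := hC.2 ⟨b, hb⟩
  have e : algebraMap R B r = b := congrArg Subtype.val hr
  rw [← e, AlgHom.commutes, AlgHom.commutes]

theorem mem_iff_of_comap_eq (hC : Function.Bijective (algebraMap R (GLin.invariants R A B))) {q q' : Ideal B}
    (h : q.comap (algebraMap R B) = q'.comap (algebraMap R B)) :
    ∀ b ∈ GLin.invariants R A B, b ∈ q ↔ b ∈ q' := by
  intro b hb
  obtain ⟨r, hr⟩ := hC.2 ⟨b, hb⟩
  have e : algebraMap R B r = b := congrArg Subtype.val hr
  rw [← e]
  exact SetLike.ext_iff.1 h r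

theorem comap_ker {K : Type u} [CommRing K] [Algebra R K] (x : B →ₐ[R] K) :
    (RingHom.ker x).comap (algebraMap R B) = RingHom.ker (algebraMap R K) := by
  ext r
  simp [RingHom.mem_ker]

/-- The local criterion of freeness. -/
theorem free_of_inTriv_of_isLocalRing [IsLocalRing R]
    (hC : Function.Bijective (algebraMap R (GLin.invariants R A B))) {K : Type u} [Field K] [Algebra R K]
    (hK : RingHom.ker (algebraMap R K) = IsLocalRing.maximalIdeal R) (x : B →ₐ[R] K) (H : InTriv R A B x)
    (T : Over (Spec (CommRingCat.of R))) (z : T ⟶ sp R B) (g : T ⟶ sp R A)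
    (hfix : lift g z ≫ (action R A B).act = z) : g = 1 := by
  rw [inTriv_iff_notMem_support] at H
  haveI := isIntegral_invariants R A B
  haveI : Algebra.IsIntegral R ↥(GLin.invariants R A B) := ⟨fun c => by
    obtain ⟨r, rfl⟩ := hC.2 c
    exact isIntegral_algebraMap⟩
  haveI : Algebra.IsIntegral R B := Algebra.IsIntegral.trans ↥(GLin.invariants R A B)
  haveI : Subsingleton (Dmod R A B) := by
    rw [← Module.support_eq_empty_iff (R := B), Set.eq_empty_iff_forall_notMem]
    intro p hp
    obtain ⟨M, hM, hpM⟩ := Ideal.exists_le_maximal p.asIdeal p.2.ne_top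
    haveI := hM
    let P : PrimeSpectrum B := ⟨M, hM.isPrime⟩
    have hP : P ∈ Module.support B (Dmod R A B) := Module.mem_support_mono (show p ≤ P from hpM) hp
    have hPR : M.comap (algebraMap R B) = IsLocalRing.maximalIdeal R :=
      IsLocalRing.eq_maximalIdeal (Ideal.isMaximal_comap_of_isIntegral_of_isMaximal M)
    exact notMem_support_of_comap_eq (mem_iff_of_comap_eq hC (show (RingHom.ker x).comap (algebraMap R B) =
      M.comap (algebraMap R B) by rw [hPR, comap_ker, hK])) H hP
  exact free_of_fixes R A B (fun L _ _ z' g' h => isUnitPt_of_subsingleton h) T z g hfix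

/-- Conjugate inertia. -/
theorem exists_conj {K : Type u} [Field K] [IsAlgClosed K] [Algebra R K]
    (hC : Function.Bijective (algebraMap R (GLin.invariants R A B))) (x₁ x₂ : B →ₐ[R] K) :
    ∃ g : sp R K ⟶ sp R A, ∀ (T : Over (Spec (CommRingCat.of R))) (h : T ⟶ sp R K) (k : T ⟶ sp R A),
      lift k (h ≫ pt x₁) ≫ (action R A B).act = h ≫ pt x₁ ↔
        lift ((h ≫ g)⁻¹ * k * (h ≫ g)) (h ≫ pt x₂) ≫ (action R A B).act = h ≫ pt x₂ := by
  obtain ⟨g, hg⟩ := exists_move_of_eq_on_invariants x₁ x₂ (invariants_agree hC x₁ x₂)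
  refine ⟨pt g, fun T h k => ?_⟩
  rw [← hg, pt_mvP, ← Category.assoc, comp_lift, fix_mul_iff, ← _root_.mul_assoc, mul_inv_cancel_right,
    mul_inv_cancel_left]

theorem inTriv_of_ker_algebraMap_eq {K₁ K₂ : Type u} [Field K₁] [Algebra R K₁] [Field K₂] [Algebra R K₂]
    (hC : Function.Bijective (algebraMap R (GLin.invariants R A B)))
    (hq : RingHom.ker (algebraMap R K₁) = RingHom.ker (algebraMap R K₂))
    (x₁ : B →ₐ[R] K₁) (x₂ : B →ₐ[R] K₂) (h₁ : InTriv R A B x₁) : InTriv R A B x₂ := by
  rw [inTriv_iff_notMem_support] at h₁ ⊢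
  exact notMem_support_of_comap_eq (mem_iff_of_comap_eq hC
    (show (RingHom.ker x₁).comap (algebraMap R B) = (RingHom.ker x₂).comap (algebraMap R B) by
      rw [comap_ker, comap_ker, hq])) h₁

/-- Trivial inertia spreads to a neighbourhood in the quotient. -/
theorem exists_away_of_inTriv {K : Type u} [Field K] [Algebra R K] (x : B →ₐ[R] K) (H : InTriv R A B x) :
    ∃ f : GLin.invariants R A B, x (f : B) ≠ 0 ∧
      ∀ (L : Type u) [CommRing L] [Algebra R L] (z : B →ₐ[R] L) (g : A →ₐ[R] L),
        IsUnit (z (f : B)) → Fixes z g → IsUnitPt g := by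
  rw [inTriv_iff_notMem_support] at H
  haveI := isIntegral_invariants R A B
  let C := GLin.invariants R A B
  let q : Ideal C := (RingHom.ker x).comap (algebraMap C B)
  haveI : (RingHom.ker x).IsPrime := RingHom.ker_isPrime x
  haveI : q.IsPrime := Ideal.IsPrime.comap _
  have hle : ¬ (Module.annihilator B (Dmod R A B)).comap (algebraMap C B) ≤ q := by
    intro hle
    obtain ⟨Q, hQ, hQp, hQc⟩ := Ideal.exists_ideal_over_prime_of_isIntegral q (Module.annihilator B (Dmod R A B)) hle
    let P : PrimeSpectrum B := ⟨Q, hQp⟩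
    have hP : P ∈ Module.support B (Dmod R A B) := by
      rw [Module.support_eq_zeroLocus]
      exact hQ
    exact notMem_support_of_comap_eq (q' := P) (fun b hb => (SetLike.ext_iff.1 hQc ⟨b, hb⟩).symm) H hP
  obtain ⟨f, hf, hfq⟩ := SetLike.not_le_iff_exists.1 hle
  refine ⟨f, hfq, fun L _ _ z g hu hfix => isUnitPt_of_smul hfix fun a => ⟨(f : B), hu, ?_⟩⟩
  exact Module.mem_annihilator.1 hf _

theorem free_over_of_inTriv {K : Type u} [Field K] [Algebra R K] (x : B →ₐ[R] K) (H : InTriv R A B x) :
    ∃ (Y' : Scheme.{u}) (c : Y' ⟶ Spec (CommRingCat.of (GLin.invariants R A B))),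
      Flat c ∧ LocallyOfFinitePresentation c ∧
      (∃ y' : Y', c.base y' =
        (Spec.map (CommRingCat.ofHom (x.toRingHom.comp (GLin.invariants R A B).val.toRingHom))).base
          (IsLocalRing.closedPoint K)) ∧
      ∀ (T : Over (Spec (CommRingCat.of R))) (ζ : T ⟶ CoactBr.sp R B),
        (∃ t : T.left ⟶ Y', t ≫ c = ζ.left ≫ Spec.map (CommRingCat.ofHom (GLin.invariants R A B).val.toRingHom)) →
        ∀ g : T ⟶ CoactBr.sp R A, lift g ζ ≫ (CoactBr.action R A B).act = ζ → g = 1 := by
  obtain ⟨f, hf0, hf⟩ := exists_away_of_inTriv x H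
  let C := CommRingCat.of (GLin.invariants R A B)
  let U : (Spec C).Opens := PrimeSpectrum.basicOpen f
  refine ⟨U.toScheme, U.ι, inferInstance, inferInstance, ⟨⟨_, ?_⟩, rfl⟩, ?_⟩
  · show x (f : B) ∈ IsLocalRing.maximalIdeal K → False
    simpa [IsLocalRing.maximalIdeal_eq_bot] using hf0
  rintro T ζ ⟨t, ht⟩ g hg
  refine eq_one_of_fix ζ g hg fun L _ _ i z' g' hz hfix => hf L z' g' ?_ hfix
  by_contra hu
  obtain ⟨M, hM, hfM⟩ := exists_max_ideal_of_mem_nonunits (mem_nonunits_iff.2 hu)
  have hmem : (Spec.map (CommRingCat.ofHom (z'.toRingHom.comp (GLin.invariants R A B).val.toRingHom))).base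
      ⟨M, hM.isPrime⟩ ∈ U := by
    have e : Spec.map (CommRingCat.ofHom (z'.toRingHom.comp (GLin.invariants R A B).val.toRingHom)) =
        (i.left ≫ t) ≫ U.ι := by
      rw [CommRingCat.ofHom_comp, Spec.map_comp, Category.assoc, ht, ← Category.assoc]
      congr 1
      exact (congrArg (fun m => m.left) hz).symm
    rw [e]
    exact (t.base (i.left.base ⟨M, hM.isPrime⟩)).2
  exact hmem hfM

theorem inTriv_of_free_over {K : Type u} [Field K] [Algebra R K] (x : B →ₐ[R] K) {Y' : Scheme.{u}}
    (c : Y' ⟶ Spec (CommRingCat.of (GLin.invariants R A B)))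
    (hy : ∃ y' : Y', c.base y' =
      (Spec.map (CommRingCat.ofHom (x.toRingHom.comp (GLin.invariants R A B).val.toRingHom))).base
        (IsLocalRing.closedPoint K))
    (hfree : ∀ (T : Over (Spec (CommRingCat.of R))) (ζ : T ⟶ CoactBr.sp R B),
      (∃ t : T.left ⟶ Y', t ≫ c = ζ.left ≫ Spec.map (CommRingCat.ofHom (GLin.invariants R A B).val.toRingHom)) →
      ∀ g : T ⟶ CoactBr.sp R A, lift g ζ ≫ (CoactBr.action R A B).act = ζ → g = 1) : InTriv R A B x := by
  obtain ⟨y', hy'⟩ := hy
  let m : Spec (CommRingCat.of K) ⟶ Spec (CommRingCat.of (GLin.invariants R A B)) :=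
    Spec.map (CommRingCat.ofHom (x.toRingHom.comp (GLin.invariants R A B).val.toRingHom))
  obtain ⟨w, -, -⟩ := Scheme.Pullback.exists_preimage_pullback (f := c) (g := m) y' (IsLocalRing.closedPoint K) hy'
  let L := (pullback c m).residueField w
  let p : Spec L ⟶ Spec (CommRingCat.of K) := (pullback c m).fromSpecResidueField w ≫ pullback.snd c m
  let θ : K →+* L := (Spec.preimage p).hom
  letI : Algebra R L := (θ.comp (algebraMap R K)).toAlgebra
  let h : K →ₐ[R] L := { θ with commutes' := fun _ => rfl }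
  have hker : RingHom.ker (h.comp x) = RingHom.ker x := by
    ext b
    simp only [RingHom.mem_ker, AlgHom.comp_apply]
    exact ⟨fun e => h.toRingHom.injective (e.trans (map_zero h.toRingHom).symm), fun e => by rw [e, map_zero]⟩
  refine inTriv_of_ker_eq hker ?_
  intro T h' g hfix
  refine hfree T (h' ≫ pt (h.comp x)) ?_ g hfix
  refine ⟨h'.left ≫ (pullback c m).fromSpecResidueField w ≫ pullback.fst c m, ?_⟩
  simp only [Category.assoc, Over.comp_left, pt_left]
  congr 1
  rw [pullback.condition, ← Category.assoc]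
  have hp : p = Spec.map (CommRingCat.ofHom θ) := (Spec.map_preimage p).symm
  show p ≫ m = _
  rw [hp, ← Spec.map_comp]
  erw [← Spec.map_comp]
  rfl

end Groth.Agent.CohDer1.CoactInertia
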