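import Groth.Agent.CohDer1.CoactInertia.Basic
import Mathlib.RingTheory.LocalRing.Module
import Mathlib.RingTheory.Flat.FaithfullyFlat.Basic
import Mathlib.RingTheory.Support
import Mathlib.RingTheory.Finiteness.Cardinality

/-!
# The defect module of the stabilizer algebra and the support criterion for trivial inertia
-/

set_option autoImplicit false
set_option maxHeartbeats 800000
universe u

open TensorProduct
open CoactBr

noncomputable section

namespace Groth.Agent.CohDer1.CoactInertia

variable (R A B : Type u) [CommRing R] [CommRing A] [HopfAlgebra R A] [CommRing B] [Algebra R B]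
  [HopfRep.Comod R A B] [GLin.IsCoactAlg R A B]

/-- The projection `B ⊗ A → B` along the counit. -/
def eps : B ⊗[R] A →ₐ[B] B :=
  Algebra.TensorProduct.lift (Algebra.ofId B B) ((Algebra.ofId R B).comp (Bialgebra.counitAlgHom R A))
    fun _ _ => .all ..

theorem eps_tmul (b : B) (a : A) : eps R A B (b ⊗ₜ[R] a) = CoalgebraStruct.counit (R := R) a • b := by
  simp [eps, Algebra.smul_def, mul_comm]

theorem eps_coact (b : B) : eps R A B (GLin.coactAlgHom R A B b) = b := by
  have h := LinearMap.congr_fun (HopfRep.Comod.counit_comp (k := R) (A := A) (V := B)) b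
  have key : ∀ z : B ⊗[R] A,
      eps R A B z = TensorProduct.rid R B (LinearMap.lTensor B (CoalgebraStruct.counit (R := R) (A := A)) z) := by
    intro z
    induction z using TensorProduct.induction_on with
    | zero => simp
    | add x y hx hy => simp only [map_add, hx, hy]
    | tmul x y => simp [eps_tmul]
  rw [key, GLin.coactAlgHom_apply]
  simp only [LinearMap.coe_comp, Function.comp_apply] at h
  rw [h]
  simp

/-- The relations of the stabilizer. -/
def J : Ideal (B ⊗[R] A) :=
  Ideal.span (Set.range fun b : B => GLin.coactAlgHom R A B b - b ⊗ₜ[R] (1 : A))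

theorem J_le_ker : J R A B ≤ RingHom.ker (eps R A B) := by
  rw [J, Ideal.span_le]
  rintro _ ⟨b, rfl⟩
  rw [SetLike.mem_coe, RingHom.mem_ker, map_sub, eps_coact, eps_tmul]
  simp

/-- The stabilizer algebra. -/
abbrev StabQ : Type u := (B ⊗[R] A) ⧸ J R A B

/-- The unit section of the stabilizer. -/
def epsQ : StabQ R A B →ₐ[B] B := Ideal.Quotient.liftₐ (J R A B) (eps R A B) (J_le_ker R A B)

theorem epsQ_mk (z : B ⊗[R] A) : epsQ R A B (Ideal.Quotient.mk _ z) = eps R A B z := rfl

/-- The kernel of the unit section. -/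
abbrev Dmod : Submodule B (StabQ R A B) := LinearMap.ker (epsQ R A B).toLinearMap

/-- The projection onto the kernel of the unit section. -/
def proj : StabQ R A B →ₗ[B] Dmod R A B :=
  (LinearMap.id - (Algebra.linearMap B (StabQ R A B)).comp (epsQ R A B).toLinearMap).codRestrict _ fun q => by
    simp [LinearMap.mem_ker]

theorem proj_apply_mem (d : Dmod R A B) : proj R A B d = d := by
  refine Subtype.ext ?_
  show (d : StabQ R A B) - algebraMap B (StabQ R A B) (epsQ R A B (d : StabQ R A B)) = (d : StabQ R A B)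
  rw [show epsQ R A B (d : StabQ R A B) = 0 from d.2, map_zero, sub_zero]

instance [Module.Finite R A] : Module.Finite B (Dmod R A B) := by
  haveI : Module.Finite B (StabQ R A B) :=
    Module.Finite.of_surjective (Ideal.Quotient.mkₐ B (J R A B)).toLinearMap Ideal.Quotient.mk_surjective
  exact Module.Finite.of_surjective (proj R A B) fun d => ⟨d, proj_apply_mem R A B d⟩

/-- The standard elements of the kernel of the unit section. -/
def dA (a : A) : Dmod R A B := proj R A B (Ideal.Quotient.mk _ ((1 : B) ⊗ₜ[R] a))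

theorem dA_val (a : A) : (dA R A B a : StabQ R A B) = Ideal.Quotient.mk _ ((1 : B) ⊗ₜ[R] a) -
    algebraMap B (StabQ R A B) (algebraMap R B (CoalgebraStruct.counit (R := R) a)) := by
  show _ - algebraMap B (StabQ R A B) (epsQ R A B (Ideal.Quotient.mk _ ((1 : B) ⊗ₜ[R] a))) = _
  rw [epsQ_mk, eps_tmul, Algebra.smul_def, mul_one]
  rfl

variable {R A B}

/-- The points of the stabilizer algebra. -/
theorem exists_hom_of_fixes {L : Type u} [CommRing L] [Algebra R L] {z : B →ₐ[R] L} {g : A →ₐ[R] L}
    (h : Fixes z g) : ∃ φ : StabQ R A B →+* L,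
      ∀ (b : B) (a : A), φ (Ideal.Quotient.mk _ (b ⊗ₜ[R] a)) = z b * g a := by
  refine ⟨Ideal.Quotient.lift (J R A B) (Algebra.TensorProduct.lift z g fun _ _ => .all ..).toRingHom ?_,
    fun b a => by simp⟩
  intro u hu
  have hle : J R A B ≤ RingHom.ker (Algebra.TensorProduct.lift z g fun _ _ => .all ..).toRingHom := by
    rw [J, Ideal.span_le]
    rintro _ ⟨b, rfl⟩
    have := h b
    simp only [GLin.coactAlgHom_apply] at this
    simp [RingHom.mem_ker, this]
  exact hle hu

/-- A point fixing `z` is the unit when `z` is a point off the support. -/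
theorem isUnitPt_of_smul {L : Type u} [CommRing L] [Algebra R L] {z : B →ₐ[R] L} {g : A →ₐ[R] L}
    (h : Fixes z g) (H : ∀ a : A, ∃ s : B, IsUnit (z s) ∧ s • dA R A B a = 0) : IsUnitPt g := by
  obtain ⟨φ, hφ⟩ := exists_hom_of_fixes h
  intro a
  obtain ⟨s, hs, hsa⟩ := H a
  have hz : ∀ b : B, φ (algebraMap B (StabQ R A B) b) = z b := fun b => by
    have e : algebraMap B (StabQ R A B) b = Ideal.Quotient.mk _ (b ⊗ₜ[R] (1 : A)) := rfl
    rw [e, hφ, map_one, mul_one]
  have h0 := congrArg φ (congrArg Subtype.val hsa)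
  rw [Submodule.coe_smul,
    show s • (dA R A B a : StabQ R A B) = algebraMap B (StabQ R A B) s * (dA R A B a : StabQ R A B) from
      Algebra.smul_def (A := StabQ R A B) s _, map_mul, hz, ZeroMemClass.coe_zero, map_zero, dA_val, map_sub, hφ, hz,
    map_one, one_mul, AlgHom.commutes, hs.mul_right_eq_zero, sub_eq_zero] at h0
  exact h0

/-- Freeness when the kernel of the unit section vanishes. -/
theorem isUnitPt_of_subsingleton [Subsingleton (Dmod R A B)] {L : Type u} [CommRing L] [Algebra R L]
    {z : B →ₐ[R] L} {g : A →ₐ[R] L} (h : Fixes z g) : IsUnitPt g :=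
  isUnitPt_of_smul h fun a => ⟨1, by simp, Subsingleton.elim _ _⟩

theorem Fixes.map {L L' : Type u} [CommRing L] [Algebra R L] [CommRing L'] [Algebra R L'] (χ : L →ₐ[R] L')
    {z : B →ₐ[R] L} {g : A →ₐ[R] L} (h : Fixes z g) : Fixes (χ.comp z) (χ.comp g) := by
  intro b
  rw [AlgHom.comp_apply, ← h b, ← AlgHom.comp_apply χ (Algebra.TensorProduct.lift z g _)]
  refine AlgHom.congr_fun (Algebra.TensorProduct.ext' fun p q => ?_) _
  simp

/-- With trivial inertia at a point, a point fixing the universal point is the unit after base change. -/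
theorem tensor_eq_of_inTriv {K Q : Type u} [CommRing K] [Algebra R K] [Algebra B K] [IsScalarTower R B K]
    [CommRing Q] [Algebra B Q] [Algebra R Q] [IsScalarTower R B Q] (g : A →ₐ[R] Q)
    (hfix : Fixes (IsScalarTower.toAlgHom R B Q) g)
    (H : InTriv R A B (IsScalarTower.toAlgHom R B K)) (a : A) :
    (1 : K) ⊗ₜ[B] g a = (1 : K) ⊗ₜ[B] algebraMap R Q (CoalgebraStruct.counit (R := R) a) := by
  have e : ∀ b : B, (1 : K) ⊗ₜ[B] algebraMap B Q b = algebraMap B K b ⊗ₜ[B] (1 : Q) := fun b => by
    rw [Algebra.algebraMap_eq_smul_one, Algebra.algebraMap_eq_smul_one, smul_tmul]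
  have e' : ∀ r : R, (1 : K) ⊗ₜ[B] algebraMap R Q r = algebraMap R (K ⊗[B] Q) r := fun r => by
    rw [IsScalarTower.algebraMap_apply R B Q, e, ← IsScalarTower.algebraMap_apply]
    rfl
  let χ : Q →ₐ[R] K ⊗[B] Q :=
    { (Algebra.TensorProduct.includeRight : Q →ₐ[B] K ⊗[B] Q).toRingHom with commutes' := e' }
  let h : K →ₐ[R] K ⊗[B] Q :=
    { (Algebra.TensorProduct.includeLeft : K →ₐ[B] K ⊗[B] Q).toRingHom with commutes' := fun _ => rfl }
  have hh : χ.comp (IsScalarTower.toAlgHom R B Q) = h.comp (IsScalarTower.toAlgHom R B K) := AlgHom.ext e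
  have hf : Fixes (h.comp (IsScalarTower.toAlgHom R B K)) (χ.comp g) := hh ▸ hfix.map χ
  have hu := (inTriv_iff _).1 H (K ⊗[B] Q) h (χ.comp g) hf a
  rw [e']
  exact hu

variable (R A B) in
/-- The universal point of the stabilizer. -/
def univPt : A →ₐ[R] StabQ R A B :=
  (Ideal.Quotient.mkₐ R (J R A B)).comp Algebra.TensorProduct.includeRight

theorem univPt_fixes : Fixes (IsScalarTower.toAlgHom R B (StabQ R A B)) (univPt R A B) := by
  intro b
  have e : Algebra.TensorProduct.lift (IsScalarTower.toAlgHom R B (StabQ R A B)) (univPt R A B) (fun _ _ => .all ..) =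
      Ideal.Quotient.mkₐ R (J R A B) := by
    refine Algebra.TensorProduct.ext' fun p q => ?_
    rw [Algebra.TensorProduct.lift_tmul]
    show Ideal.Quotient.mk (J R A B) (p ⊗ₜ[R] (1 : A)) * Ideal.Quotient.mk (J R A B) ((1 : B) ⊗ₜ[R] q) = _
    rw [← map_mul, Algebra.TensorProduct.tmul_mul_tmul, mul_one, one_mul]
    rfl
  rw [e]
  show Ideal.Quotient.mk (J R A B) (GLin.coactAlgHom R A B b) = Ideal.Quotient.mk (J R A B) (b ⊗ₜ[R] (1 : A))
  exact Ideal.Quotient.eq.2 (Ideal.subset_span ⟨b, rfl⟩)

theorem tensor_dA_eq_zero {K : Type u} [CommRing K] [Algebra R K] [Algebra B K] [IsScalarTower R B K]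
    (H : InTriv R A B (IsScalarTower.toAlgHom R B K)) (a : A) :
    (1 : K) ⊗ₜ[B] (dA R A B a : StabQ R A B) = 0 := by
  rw [dA_val, tmul_sub, sub_eq_zero]
  refine (tensor_eq_of_inTriv (univPt R A B) univPt_fixes H a).trans ?_
  rw [IsScalarTower.algebraMap_apply R B (StabQ R A B)]

theorem subsingleton_tensor_Dmod {K : Type u} [CommRing K] [Algebra R K] [Algebra B K] [IsScalarTower R B K]
    (H : InTriv R A B (IsScalarTower.toAlgHom R B K)) : Subsingleton (K ⊗[B] Dmod R A B) := by
  have h2 : ∀ q : StabQ R A B, (1 : K) ⊗ₜ[B] ((proj R A B q : Dmod R A B) : StabQ R A B) = 0 := by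
    intro q
    obtain ⟨u, rfl⟩ := Ideal.Quotient.mk_surjective q
    induction u using TensorProduct.induction_on with
    | zero => simp
    | add p q hp hq => simp only [map_add, Submodule.coe_add, tmul_add, hp, hq, add_zero]
    | tmul b a =>
      have e : Ideal.Quotient.mk (J R A B) (b ⊗ₜ[R] a) = b • Ideal.Quotient.mk (J R A B) ((1 : B) ⊗ₜ[R] a) := by
        rw [← Ideal.Quotient.mkₐ_eq_mk B, ← map_smul, smul_tmul', smul_eq_mul, mul_one]
      rw [e, map_smul, Submodule.coe_smul, tmul_smul]
      exact smul_eq_zero_of_right b (tensor_dA_eq_zero H a)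
  refine subsingleton_of_forall_eq 0 fun w => ?_
  induction w using TensorProduct.induction_on with
  | zero => rfl
  | add p q hp hq => rw [hp, hq, add_zero]
  | tmul c d =>
    have h3 := congrArg (LinearMap.lTensor K (proj R A B)) (h2 (d : StabQ R A B))
    rw [proj_apply_mem, LinearMap.lTensor_tmul, proj_apply_mem, map_zero] at h3
    rw [← mul_one c, ← smul_eq_mul, ← smul_tmul', h3, smul_zero]

variable [Module.Finite R A]

theorem notMem_support_of_subsingleton {K M : Type u} [Field K] [Algebra B K] [AddCommGroup M] [Module B M]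
    [Module.Finite B M] (p : PrimeSpectrum B) (hp : RingHom.ker (algebraMap B K) = p.asIdeal)
    (hs : Subsingleton (K ⊗[B] M)) : p ∉ Module.support B M := by
  intro hmem
  rw [Module.mem_support_iff_nontrivial_residueField_tensorProduct] at hmem
  let ψ : p.asIdeal.ResidueField →ₐ[B] K :=
    Ideal.ResidueField.liftₐ p.asIdeal (Algebra.ofId B K) hp.ge fun b hb =>
      IsUnit.mk0 _ fun h0 => hb (hp.le h0)
  letI : Algebra p.asIdeal.ResidueField K := ψ.toRingHom.toAlgebra
  haveI : IsScalarTower B p.asIdeal.ResidueField K := IsScalarTower.of_algebraMap_eq fun b => (ψ.commutes b).symm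
  haveI : Nontrivial (K ⊗[p.asIdeal.ResidueField] (p.asIdeal.ResidueField ⊗[B] M)) := inferInstance
  exact not_nontrivial_iff_subsingleton.2 hs
    ((TensorProduct.AlgebraTensorModule.cancelBaseChange B p.asIdeal.ResidueField p.asIdeal.ResidueField K
      M).toEquiv.symm.nontrivial)

/-- The support criterion for trivial inertia at a point with values in a field. -/
theorem inTriv_iff_notMem_support {K : Type u} [Field K] [Algebra R K] (x : B →ₐ[R] K) :
    InTriv R A B x ↔ (⟨RingHom.ker x, RingHom.ker_isPrime x⟩ : PrimeSpectrum B) ∉ Module.support B (Dmod R A B) := by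
  constructor
  · intro H
    letI : Algebra B K := x.toRingHom.toAlgebra
    haveI : IsScalarTower R B K := IsScalarTower.of_algebraMap_eq fun r => (x.commutes r).symm
    exact notMem_support_of_subsingleton (M := Dmod R A B) _ rfl (subsingleton_tensor_Dmod H)
  · intro H
    rw [inTriv_iff]
    intro L _ _ h g hfix
    rw [Module.notMem_support_iff'] at H
    refine isUnitPt_of_smul hfix fun a => ?_
    obtain ⟨s, hs, hsa⟩ := H (dA R A B a)
    exact ⟨s, (IsUnit.mk0 (x s) hs).map h, hsa⟩

/-- Trivial inertia only depends on the underlying prime. -/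
theorem inTriv_of_ker_eq {K K' : Type u} [Field K] [Algebra R K] [Field K'] [Algebra R K'] {x : B →ₐ[R] K}
    {x' : B →ₐ[R] K'} (h : RingHom.ker x = RingHom.ker x') (H : InTriv R A B x) : InTriv R A B x' := by
  rw [inTriv_iff_notMem_support] at H ⊢
  simpa [h] using H

end Groth.Agent.CohDer1.CoactInertia
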